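import Groth.Agent.EtTransferLib.PointTorsion

/-!
# Torsion of the cohomology of direct images from points
-/

set_option autoImplicit false
set_option linter.unusedSectionVars false
set_option linter.style.haveILetI false
set_option backward.isDefEq.respectTransparency false
set_option backward.isDefEq.respectTransparency.types false
set_option synthInstance.maxHeartbeats 400000
set_option maxHeartbeats 1000000

universe u

open CategoryTheory CategoryTheory.Limits CategoryTheory.Abelian AlgebraicGeometry Opposite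
open Groth.Agent.EtShLib EtSliceLib

namespace EtTransferLib

noncomputable section

variable {k : Type u} [Field k] {X : Scheme.{u}} (f : Spec (CommRingCat.of k) ⟶ X)

theorem exists_nsmul_lift {M : EtCoh.Ab (Spec (CommRingCat.of k))} {S : ShortComplex (EtCoh.Ab (Spec (CommRingCat.of k)))}
    (hS : S.ShortExact) (hT : ∀ y : Ext.{u + 1} M S.X₁ 1, IsOfFinAddOrder y) (s : M ⟶ S.X₃) :
    ∃ m : ℕ, 0 < m ∧ ∃ e : M ⟶ S.X₂, e ≫ S.g = m • s := by
  obtain ⟨m, hm, h⟩ := isOfFinAddOrder_iff_nsmul_eq_zero.1 (hT ((Ext.mk₀ s).comp hS.extClass (zero_add 1)))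
  have h' : (Ext.mk₀ (m • s)).comp hS.extClass (zero_add 1) = 0 := by
    rw [ext_mk₀_nsmul, ← Ext.bilinearComp_apply_apply, map_nsmul, AddMonoidHom.coe_smul, Pi.smul_apply,
      Ext.bilinearComp_apply_apply, h]
  obtain ⟨w, hw⟩ := Ext.covariant_sequence_exact₃ M hS _ (n₁ := 1) (zero_add 1) h'
  obtain ⟨e, rfl⟩ := (Ext.mk₀_bijective M S.X₂).2 w
  rw [Ext.mk₀_comp_mk₀] at hw
  exact ⟨m, hm, e, (Ext.mk₀_bijective _ _).1 hw⟩

theorem isTorsion_cokernel [QuasiCompact f] [QuasiSeparated f]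
    {S : ShortComplex (EtCoh.Ab (Spec (CommRingCat.of k)))} (hS : S.ShortExact)
    {R : EtCoh.Ab X} (q : (EtCoh.push f).obj S.X₃ ⟶ R) [Epi q] (hq : (EtCoh.push f).map S.g ≫ q = 0) :
    EtCoh.IsTorsion R := by
  intro U s x
  obtain ⟨Ω, _, _, ξ, v₀, hv₀⟩ := exists_geometric (U := U) x
  obtain ⟨q₁, hq₁⟩ := (AddCommGrpCat.epi_iff_surjective _).1
    ((epi_iff_stalks (A := AddCommGrpCat.{u + 1}) q).1 inferInstance Ω ξ)
    (germ (A := AddCommGrpCat.{u + 1}) ξ R U v₀ s)
  obtain ⟨V₁, g₁, v₁, z₁, hv₁, rfl⟩ := exists_germ_below (A := AddCommGrpCat.{u + 1}) ξ q₁ U v₀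
  rw [germ_natural_apply, ← hv₁, ← germ_res_apply] at hq₁
  obtain ⟨V₂, g₂, v₂, hv₂, he⟩ := (germ_eq_iff (A := AddCommGrpCat.{u + 1}) ξ V₁ v₁ _ _).1 hq₁
  obtain ⟨V, g₃, v, hV, hv⟩ := exists_affine_below' ξ V₂ v₂
  let g : V ⟶ V₁ := g₃ ≫ g₂
  let z := ((EtCoh.push f).obj S.X₃).obj.map g.op z₁
  have hz : q.hom.app (op V) z = R.obj.map (g ≫ g₁).op s := by
    refine (NatTrans.naturality_apply q.hom g.op z₁).trans ?_
    simp only [g, op_comp, Functor.map_comp, ConcreteCategory.comp_apply]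
    exact congrArg (R.obj.map g₃.op) he
  refine ⟨V, g ≫ g₁, ⟨v.pt, ?_⟩, ?_⟩
  · rw [← hv₀, ← hv₁, ← hv₂, ← hv]
    rfl
  rw [← hz]
  let c : S.X₃.obj.obj (op ((EtCoh.bc f).obj V)) := z
  haveI : CompactSpace ↥((EtCoh.bc f).obj V).left := (bc_mem_qcqsObj f (V := V)).1
  obtain ⟨m, hm, e, he'⟩ := exists_nsmul_lift hS (isOfFinAddOrder_ext_field _ (n := 0)) (desc ((EtCoh.bc f).obj V) c)
  refine isOfFinAddOrder_iff_nsmul_eq_zero.2 ⟨m, hm, ?_⟩
  let b : ((EtCoh.push f).obj S.X₂).obj.obj (op V) := e.hom.app (op ((EtCoh.bc f).obj V)) (gen _)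
  have hb : ((EtCoh.push f).map S.g).hom.app (op V) b = m • z := by
    show S.g.hom.app (op ((EtCoh.bc f).obj V)) (e.hom.app (op ((EtCoh.bc f).obj V)) (gen _)) = m • c
    refine (congrArg (fun t : free ((EtCoh.bc f).obj V) ⟶ S.X₃ => t.hom.app (op ((EtCoh.bc f).obj V)) (gen _)) he').trans ?_
    exact congrArg (m • ·) (desc_gen ((EtCoh.bc f).obj V) c)
  rw [← map_nsmul, ← hb]
  exact congrArg (fun t : (EtCoh.push f).obj S.X₂ ⟶ R => t.hom.app (op V) b) hq

theorem isOfFinAddOrder_H_push [CompactSpace ↥X] [QuasiSeparatedSpace ↥X] [QuasiCompact f] [QuasiSeparated f] :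
    ∀ (n : ℕ) (F : EtCoh.Ab (Spec (CommRingCat.of k))) (x : EtCoh.H X ((EtCoh.push f).obj F) (n + 1)),
      IsOfFinAddOrder x := by
  haveI : PreservesLimitsOfSize.{0, 0} (EtCoh.push f) := (EtCoh.pullPushAdj f).rightAdjoint_preservesLimits
  haveI : PreservesFiniteLimits (EtCoh.push f) := PreservesLimitsOfSize.preservesFiniteLimits _
  haveI : (EtCoh.push f).Additive := { }
  haveI : (EtCoh.pull f).PreservesMonomorphisms := inferInstance
  intro n
  induction n with
  | zero =>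
    intro F x
    let ip := (EnoughInjectives.presentation F).some
    let S := ShortComplex.mk ip.f (cokernel.π ip.f) (cokernel.condition _)
    have hS : S.ShortExact := { exact := ShortComplex.exact_of_g_is_cokernel _ (cokernelIsCokernel _) }
    haveI : Injective S.X₂ := ip.injective
    let G := EtCoh.push f
    let S₁ := ShortComplex.mk (G.map S.f) (cokernel.π (G.map S.f)) (cokernel.condition _)
    haveI : Mono (G.map S.f) := G.map_mono _
    have h₁ : S₁.ShortExact := { exact := ShortComplex.exact_of_g_is_cokernel _ (cokernelIsCokernel _) }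
    haveI : Injective S₁.X₂ := Injective.injective_of_adjoint (EtCoh.pullPushAdj f) S.X₂
    let j : S₁.X₃ ⟶ G.obj S.X₃ := cokernel.desc (G.map S.f) (G.map S.g) (by rw [← G.map_comp, S.zero, G.map_zero])
    haveI : Mono j := (S.map G).exact_iff_mono_cokernel_desc.1 (hS.exact.map_of_mono_of_preservesKernel G inferInstance inferInstance)
    obtain ⟨d, rfl⟩ := Ext.covariant_sequence_exact₁ _ h₁ (n₁ := 0 + 1) x (Ext.eq_zero_of_injective _) (n₀ := 0) rfl
    obtain ⟨d, rfl⟩ := (Ext.mk₀_bijective _ _).2 d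
    let adj := EtCoh.pullPushAdj f
    let d' := (adj.homEquiv _ _).symm (d ≫ j)
    have hT : ∀ y : Ext.{u + 1} ((EtCoh.pull f).obj (EtCoh.const X ℤ)) S.X₁ 1, IsOfFinAddOrder y := fun y => by
      obtain ⟨m, hm, h⟩ := isOfFinAddOrder_H k (n := 0) ((Ext.mk₀ (EtCore.pullConst f ℤ).inv).comp y (zero_add 1))
      refine isOfFinAddOrder_iff_nsmul_eq_zero.2 ⟨m, hm, ?_⟩
      have h' := congrArg (fun w => (Ext.mk₀ (EtCore.pullConst f ℤ).hom).comp w (zero_add 1)) h
      rw [← Ext.bilinearComp_apply_apply, map_nsmul, Ext.bilinearComp_apply_apply, Ext.mk₀_comp_mk₀_assoc,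
        Iso.hom_inv_id, Ext.mk₀_id_comp, Ext.comp_zero] at h'
      exact h'
    obtain ⟨m, hm, e, he⟩ := exists_nsmul_lift hS hT d'
    refine isOfFinAddOrder_iff_nsmul_eq_zero.2 ⟨m, hm, ?_⟩
    have hd : m • d = (adj.homEquiv _ _ e) ≫ S₁.g := by
      rw [← cancel_mono j, Preadditive.nsmul_comp, Category.assoc]
      show m • (d ≫ j) = adj.homEquiv _ _ e ≫ cokernel.π (G.map S.f) ≫ cokernel.desc _ _ _
      rw [cokernel.π_desc, ← Adjunction.homEquiv_naturality_right, he, Adjunction.homEquiv_unit, Functor.map_nsmul,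
        Preadditive.comp_nsmul, ← Adjunction.homEquiv_unit, Equiv.apply_symm_apply]
    rw [← Ext.bilinearComp_apply_apply, ← AddMonoidHom.flip_apply, ← map_nsmul, ← ext_mk₀_nsmul, hd,
      AddMonoidHom.flip_apply, Ext.bilinearComp_apply_apply, ← Ext.mk₀_comp_mk₀, Ext.comp_assoc_of_second_deg_zero,
      h₁.comp_extClass, Ext.comp_zero]
  | succ n ih =>
    intro F x
    let ip := (EnoughInjectives.presentation F).some
    let S := ShortComplex.mk ip.f (cokernel.π ip.f) (cokernel.condition _)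
    have hS : S.ShortExact := { exact := ShortComplex.exact_of_g_is_cokernel _ (cokernelIsCokernel _) }
    haveI : Injective S.X₂ := ip.injective
    let G := EtCoh.push f
    let S₁ := ShortComplex.mk (G.map S.f) (cokernel.π (G.map S.f)) (cokernel.condition _)
    haveI : Mono (G.map S.f) := G.map_mono _
    have h₁ : S₁.ShortExact := { exact := ShortComplex.exact_of_g_is_cokernel _ (cokernelIsCokernel _) }
    haveI : Injective S₁.X₂ := Injective.injective_of_adjoint (EtCoh.pullPushAdj f) S.X₂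
    let j : S₁.X₃ ⟶ G.obj S.X₃ := cokernel.desc (G.map S.f) (G.map S.g) (by rw [← G.map_comp, S.zero, G.map_zero])
    haveI : Mono j := (S.map G).exact_iff_mono_cokernel_desc.1 (hS.exact.map_of_mono_of_preservesKernel G inferInstance inferInstance)
    let S₂ := ShortComplex.mk j (cokernel.π j) (cokernel.condition _)
    have h₂ : S₂.ShortExact := { exact := ShortComplex.exact_of_g_is_cokernel _ (cokernelIsCokernel _) }
    have hR : EtCoh.IsTorsion S₂.X₃ := isTorsion_cokernel f hS (cokernel.π j) (by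
      rw [show G.map S.g = cokernel.π (G.map S.f) ≫ j from (cokernel.π_desc _ _ _).symm, Category.assoc,
        cokernel.condition, comp_zero])
    obtain ⟨d, rfl⟩ := Ext.covariant_sequence_exact₁ _ h₁ (n₁ := n + 1 + 1) x (Ext.eq_zero_of_injective _) (n₀ := n + 1) rfl
    obtain ⟨m, hm, hd⟩ := isOfFinAddOrder_iff_nsmul_eq_zero.1 (ih S.X₃ (d.comp (Ext.mk₀ j) (add_zero (n + 1))))
    have hd' : (m • d).comp (Ext.mk₀ S₂.f) (add_zero (n + 1)) = 0 := by
      rw [← Ext.bilinearComp_apply_apply, ← AddMonoidHom.flip_apply, map_nsmul]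
      exact hd
    obtain ⟨c, hc⟩ := Ext.covariant_sequence_exact₁ _ h₂ (n₁ := n + 1) _ hd' (n₀ := n) rfl
    obtain ⟨m', hm', hc'⟩ := isOfFinAddOrder_iff_nsmul_eq_zero.1 (isAddTorsion_H hR n c)
    refine isOfFinAddOrder_iff_nsmul_eq_zero.2 ⟨m' * m, Nat.mul_pos hm' hm, ?_⟩
    have h0 : (m' * m) • d = 0 := by
      rw [mul_nsmul', ← hc, ← Ext.bilinearComp_apply_apply, ← AddMonoidHom.flip_apply, ← map_nsmul, hc', map_zero]
    rw [← Ext.bilinearComp_apply_apply, ← AddMonoidHom.flip_apply, ← map_nsmul, h0, map_zero]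

end

end EtTransferLib
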