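import Groth.Agent.EtSliceLib.Hpull
import Groth.Agent.EtShLib.Trace

/-!
# Transfer along finite etale morphisms
-/

set_option autoImplicit false
set_option linter.unusedSectionVars false
set_option linter.style.haveILetI false
set_option backward.isDefEq.respectTransparency false
set_option backward.isDefEq.respectTransparency.types false
set_option synthInstance.maxHeartbeats 400000
set_option maxHeartbeats 1000000

universe u

open CategoryTheory CategoryTheory.Limits CategoryTheory.Abelian AlgebraicGeometry Opposite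
open Groth.Agent.EtShLib EtSliceLib

namespace EtTransferLib

noncomputable section

variable {X : Scheme.{u}}

/-- The lifts of a geometric point along a map of etale objects are its lifts as a scheme morphism. -/
def liftEquiv {O P : X.Etale} (i : O ⟶ P) {Ω : Type u} [Field Ω] [IsSepClosed Ω]
    {ξ : Spec (CommRingCat.of Ω) ⟶ X} (z : Fib ξ P) :
    {o : Fib ξ O // o.map i = z} ≃ {l : Spec (CommRingCat.of Ω) ⟶ O.left // l ≫ i.left = z.hom} where
  toFun o := ⟨o.1.hom, by rw [← Fib.map_hom, o.2]⟩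
  invFun l := ⟨Fib.mk l.1 (by rw [← MorphismProperty.Over.w i, ← Category.assoc, l.2]; exact z.w), Fib.ext l.2⟩
  left_inv o := Subtype.ext (Fib.ext rfl)
  right_inv l := rfl

theorem finite_lifts {O P : X.Etale} (i : O ⟶ P) [IsFinite i.left] {Ω : Type u} [Field Ω] [IsSepClosed Ω]
    {ξ : Spec (CommRingCat.of Ω) ⟶ X} (z : Fib ξ P) : Finite {o : Fib ξ O // o.map i = z} := by
  haveI := etale_left i
  let Q : P.left.Etale := MorphismProperty.Over.mk ⊤ i.left (inferInstance : AlgebraicGeometry.Etale i.left)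
  haveI : IsFinite (str Q) := inferInstanceAs (IsFinite i.left)
  obtain ⟨hfin, -⟩ := exists_split_finite Q z.hom
  exact Finite.of_injective (fun o : {o : Fib ξ O // o.map i = z} =>
      (Fib.mk o.1.hom (congrArg (fun t : Fib ξ P => t.hom) o.2) : Fib z.hom Q))
    fun a b h => Subtype.ext (Fib.ext (congrArg (fun q : Fib z.hom Q => q.hom) h :))

theorem nsmul_id_app (G : EtCoh.Ab X) (d : ℕ) (U : X.Etale) (s : ToType (G.obj.obj (op U))) :
    (d • 𝟙 G : G ⟶ G).hom.app (op U) s = d • s := by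
  induction d with
  | zero => rw [zero_smul, zero_smul]; rfl
  | succ d ih =>
    rw [succ_nsmul, succ_nsmul]
    show (d • 𝟙 G : G ⟶ G).hom.app (op U) s + s = _
    rw [ih]

theorem exists_transfer {O P : X.Etale} (i : O ⟶ P) [IsFinite i.left] (d : ℕ)
    (hd : ∀ (Ω : Type u) [Field Ω] [IsSepClosed Ω] (ξ : Spec (CommRingCat.of Ω) ⟶ X) (z : Fib ξ P),
      Nat.card {o : Fib ξ O // o.map i = z} = d) :
    ∃ τ : free P ⟶ free O, τ ≫ freeMap i = d • 𝟙 (free P) := by
  obtain ⟨t, ht⟩ := exists_trace (free O) i (gen O)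
  refine ⟨desc P t, free_hom_ext P ?_⟩
  show (freeMap i).hom.app (op P) ((desc P t).hom.app (op P) (gen P)) = (d • 𝟙 (free P)).hom.app (op P) (gen P)
  rw [desc_gen]
  refine (eq_of_germ (A := AddCommGrpCat.{u + 1}) (free P) _ _ fun Ω _ _ ξ z => ?_)
  haveI := finite_lifts i z
  haveI := Fintype.ofFinite {o : Fib ξ O // o.map i = z}
  rw [← germ_natural_apply, ht, finsum_eq_sum_of_fintype, map_sum]
  have h1 : ∀ o : {o : Fib ξ O // o.map i = z}, (stk (A := AddCommGrpCat.{u + 1}) ξ).map (freeMap i)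
      (germ (A := AddCommGrpCat.{u + 1}) ξ (free O) O o.1 (gen O)) =
      germ (A := AddCommGrpCat.{u + 1}) ξ (free P) P z (gen P) := fun o => by
    rw [germ_natural_apply, freeMap_gen, germ_res_apply, o.2]
  rw [Finset.sum_congr rfl (fun o _ => h1 o), Finset.sum_const, Finset.card_univ, ← Nat.card_eq_fintype_card,
    hd Ω ξ z, ← map_nsmul]
  refine congrArg (germ (A := AddCommGrpCat.{u + 1}) ξ (free P) P z) ?_
  exact (nsmul_id_app (free P) d P (gen P)).symm

theorem nsmul_eq_zero_of_freeMap {O P : X.Etale} (i : O ⟶ P) [IsFinite i.left] (d : ℕ)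
    (hd : ∀ (Ω : Type u) [Field Ω] [IsSepClosed Ω] (ξ : Spec (CommRingCat.of Ω) ⟶ X) (z : Fib ξ P),
      Nat.card {o : Fib ξ O // o.map i = z} = d)
    {F : EtCoh.Ab X} {n : ℕ} (y : Ext.{u + 1} (free P) F n)
    (h : (Ext.mk₀ (freeMap i)).comp y (zero_add n) = 0) : d • y = 0 := by
  obtain ⟨τ, hτ⟩ := exists_transfer i d hd
  have h1 : (Ext.mk₀ (d • 𝟙 (free P))).comp y (zero_add n) = 0 := by
    rw [← hτ, ← Ext.mk₀_comp_mk₀, Ext.comp_assoc_of_second_deg_zero, h, Ext.comp_zero]
  have h2 : ∀ m : ℕ, (Ext.mk₀ (m • 𝟙 (free P))).comp y (zero_add n) = m • y := by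
    intro m
    induction m with
    | zero => rw [zero_smul, zero_smul, Ext.mk₀_zero, Ext.zero_comp]
    | succ m ih => rw [succ_nsmul, succ_nsmul, Ext.mk₀_add, Ext.add_comp, ih, Ext.mk₀_id_comp]
  rwa [h2] at h1

theorem exists_section_toConst (Y : Scheme.{u}) :
    ∃ σ : EtCoh.const Y ℤ ⟶ free (EtCoh.top Y), σ ≫ toConst (EtCoh.top Y) = 𝟙 _ := by
  refine ⟨((EtCore.constAdj Y).homEquiv _ _).symm (intHom (gen (EtCoh.top Y))), DescSecLib.et_ext_Z _ _ ?_⟩
  rw [Functor.map_comp, ConcreteCategory.comp_apply, gsec_map_symm, intHom_one]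
  show (toConst (EtCoh.top Y)).hom.app (op (EtCoh.top Y)) (gen _) = _
  rw [toConst, desc_gen, (EtCore.topIsTerminal Y).hom_ext ((EtCore.topIsTerminal Y).from (EtCoh.top Y)) (𝟙 _)]
  simp

theorem nsmul_eq_zero {W : X.Etale} [IsFinite W.hom] (d : ℕ)
    (hd : ∀ (Ω : Type u) [Field Ω] [IsSepClosed Ω] (ξ : Spec (CommRingCat.of Ω) ⟶ X), Nat.card (Fib ξ W) = d)
    {F : EtCoh.Ab X} {n : ℕ} (α : EtCoh.H X F n) (h : (Ext.mk₀ (toConst W)).comp α (zero_add n) = 0) :
    d • α = 0 := by
  let i := (EtCore.topIsTerminal X).from W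
  have hi : i.left = W.hom := (Category.comp_id _).symm.trans (MorphismProperty.Over.w i)
  haveI : IsFinite i.left := by rw [hi]; infer_instance
  have hd' : ∀ (Ω : Type u) [Field Ω] [IsSepClosed Ω] (ξ : Spec (CommRingCat.of Ω) ⟶ X) (z : Fib ξ (EtCoh.top X)),
      Nat.card {o : Fib ξ W // o.map i = z} = d := by
    intro Ω _ _ ξ z
    rw [← hd Ω ξ]
    exact Nat.card_congr (Equiv.subtypeUnivEquiv fun o => Fib.ext
      (((Category.comp_id _).symm.trans (o.map i).w).trans ((Category.comp_id _).symm.trans z.w).symm))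
  let y := (Ext.mk₀ (toConst (EtCoh.top X))).comp α (zero_add n)
  have hy : d • y = 0 := nsmul_eq_zero_of_freeMap i d hd' y (by
    rw [← Ext.comp_assoc_of_second_deg_zero, Ext.mk₀_comp_mk₀, freeMap_toConst]
    exact h)
  obtain ⟨σ, hσ⟩ := exists_section_toConst X
  have hα : α = (Ext.mk₀ σ).comp y (zero_add n) := by
    rw [← Ext.comp_assoc_of_second_deg_zero, Ext.mk₀_comp_mk₀, hσ, Ext.mk₀_id_comp]
  rw [hα]
  exact (map_nsmul ((Ext.mk₀ σ).precomp F (zero_add n)) d y).symm.trans (by rw [hy, map_zero])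

theorem kills_iff {W : X.Etale} [PreservesFiniteLimits (EtCoh.pull W.hom)] (F : EtCoh.Ab X) (n : ℕ)
    (α : EtCoh.H X F n) : EtCore.Hpull W.hom F n α = 0 ↔ (Ext.mk₀ (toConst W)).comp α (zero_add n) = 0 := by
  rw [Hpull_eq_psi]
  exact map_eq_zero_iff _ (psi_bijective W n F).1

end

end EtTransferLib

namespace EtTransferLib

theorem comp_mk₀_nsmul {X : Scheme.{u}} {P F : EtCoh.Ab X} {n : ℕ} (x : Ext.{u + 1} P F n) (d : ℕ) :
    x.comp (Ext.mk₀ (d • 𝟙 F)) (add_zero n) = d • x := by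
  induction d with
  | zero => rw [zero_smul, zero_smul, Ext.mk₀_zero, Ext.comp_zero]
  | succ d ih => rw [succ_nsmul, succ_nsmul, Ext.mk₀_add, Ext.comp_add, ih, Ext.comp_mk₀_id]

end EtTransferLib
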