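import Groth.Agent.EtTransferLib.Torsion
import Groth.Agent.S14451
import Groth.Agent.S3054
import Groth.Agent.EtShLib.Noeth
import Mathlib.AlgebraicGeometry.Morphisms.QuasiFinite

/-!
# Torsion in higher direct images from points
-/

set_option autoImplicit false
set_option linter.unusedSectionVars false
set_option linter.style.haveILetI false
set_option backward.isDefEq.respectTransparency false
set_option backward.isDefEq.respectTransparency.types false
set_option synthInstance.maxHeartbeats 400000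
set_option maxHeartbeats 1000000

universe u

open CategoryTheory CategoryTheory.Limits CategoryTheory.Abelian AlgebraicGeometry Opposite
open Groth.Agent.EtShLib EtSliceLib

namespace EtTransferLib

noncomputable section

variable {X : Scheme.{u}} {W : X.Etale}

/-- The free sheaf represents sections. -/
def sectRep (W : X.Etale) : SectRep (free W) W where
  e G :=
    { toFun := fun s => s.hom.app (op W) (gen W)
      invFun := fun s => desc W s
      left_inv := fun s => free_hom_ext W (desc_gen W _)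
      right_inv := fun s => desc_gen W s
      map_add' := fun _ _ => rfl }
  nat _ _ := rfl

theorem exists_nsmul_coboundary_succ {F : EtCoh.Ab X} {p : ℕ}
    (hT : ∀ y : Ext.{u + 1} (free W) F (p + 1), IsOfFinAddOrder y)
    (I : InjectiveResolution F) (a : (I.cocomplex.X (p + 1)).obj.obj (op W))
    (ha : (I.cocomplex.d (p + 1) (p + 1 + 1)).hom.app (op W) a = 0) :
    ∃ m : ℕ, 0 < m ∧ ∃ b : (I.cocomplex.X p).obj.obj (op W), (I.cocomplex.d p (p + 1)).hom.app (op W) b = m • a := by
  let R := sectRep W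
  obtain ⟨f, rfl⟩ := (R.e (I.cocomplex.X (p + 1))).surjective a
  have hf : f ≫ I.cocomplex.d (p + 1) (p + 1 + 1) = 0 := (R.e _).injective (by rw [← R.nat, ha, map_zero])
  obtain ⟨m, hm, hmf⟩ := isOfFinAddOrder_iff_nsmul_eq_zero.1 (hT (I.extMk f (p + 1 + 1) rfl hf))
  rw [extMk_nsmul I f hf m, I.extMk_eq_zero_iff _ _ _ _ p rfl] at hmf
  obtain ⟨g, hg⟩ := hmf
  refine ⟨m, hm, R.e _ g, ?_⟩
  rw [R.nat, hg, map_nsmul]

variable {Y : Scheme.{u}} (f : X ⟶ Y)

theorem isTorsion_rightDerived_push_succ [QuasiCompact f] [QuasiSeparated f] {F : EtCoh.Ab X} (p : ℕ)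
    (hF : ∀ W : X.Etale, W ∈ qcqsObj X → ∀ y : Ext.{u + 1} (EtSliceLib.free W) F (p + 1), IsOfFinAddOrder y) : haveI : (EtCoh.push f).Additive := { }
    EtCoh.IsTorsion (((EtCoh.push f).rightDerived (p + 1)).obj F) := by
  haveI : (EtCoh.push f).Additive := { }
  let n := p + 1
  let I := injectiveResolution F
  let K := ((EtCoh.push f).mapHomologicalComplex (ComplexShape.up ℕ)).obj I.cocomplex
  refine isTorsion_of_iso (I.isoRightDerivedObj (EtCoh.push f) n).symm ?_
  show EtCoh.IsTorsion (K.homology n)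
  intro U s x
  obtain ⟨Ω, _, _, ξ, v₀, hv₀⟩ := exists_geometric (U := U) x
  obtain ⟨q, hq⟩ := (AddCommGrpCat.epi_iff_surjective _).1
    ((epi_iff_stalks (A := AddCommGrpCat.{u + 1}) (K.homologyπ n)).1 inferInstance Ω ξ)
    (germ (A := AddCommGrpCat.{u + 1}) ξ (K.homology n) U v₀ s)
  obtain ⟨V₁, g₁, v₁, z₁, hv₁, rfl⟩ := exists_germ_below (A := AddCommGrpCat.{u + 1}) ξ q U v₀
  rw [germ_natural_apply, ← hv₁, ← germ_res_apply] at hq
  obtain ⟨V₂, g₂, v₂, hv₂, he⟩ := (germ_eq_iff (A := AddCommGrpCat.{u + 1}) ξ V₁ v₁ _ _).1 hq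
  obtain ⟨V, g₃, v, hV, hv⟩ := exists_affine_below' ξ V₂ v₂
  let g : V ⟶ V₁ := g₃ ≫ g₂
  let z := (K.cycles n).obj.map g.op z₁
  have hz : (K.homologyπ n).hom.app (op V) z = (K.homology n).obj.map (g ≫ g₁).op s := by
    refine (NatTrans.naturality_apply (K.homologyπ n).hom g.op z₁).trans ?_
    simp only [g, op_comp, Functor.map_comp, ConcreteCategory.comp_apply]
    exact congrArg ((K.homology n).obj.map g₃.op) he
  refine ⟨V, g ≫ g₁, ⟨v.pt, ?_⟩, ?_⟩
  · rw [← hv₀, ← hv₁, ← hv₂, ← hv]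
    rfl
  rw [← hz]
  let a : (I.cocomplex.X n).obj.obj (op ((EtCoh.bc f).obj V)) := (K.iCycles n).hom.app (op V) z
  have ha : (I.cocomplex.d n (n + 1)).hom.app (op ((EtCoh.bc f).obj V)) a = 0 :=
    (ConcreteCategory.comp_apply ((K.iCycles n).hom.app (op V)) ((K.d n (n + 1)).hom.app (op V)) z).symm.trans
      (congrArg (fun t : K.cycles n ⟶ K.X (n + 1) => t.hom.app (op V) z) (K.iCycles_d n (n + 1)))
  have hinj : Function.Injective ((K.iCycles n).hom.app (op V)) := by
    haveI : Mono ((sheafToPresheaf Y.smallEtaleTopology AddCommGrpCat.{u + 1} ⋙ (evaluation _ _).obj (op V)).map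
      (K.iCycles n)) := inferInstance
    exact (AddCommGrpCat.mono_iff_injective _).1
      (inferInstanceAs (Mono ((sheafToPresheaf Y.smallEtaleTopology AddCommGrpCat.{u + 1} ⋙
        (evaluation _ _).obj (op V)).map (K.iCycles n))))
  obtain ⟨m, hm, h⟩ := exists_nsmul_coboundary_succ (hF _ (bc_mem_qcqsObj f (V := V))) I a ha
  refine isOfFinAddOrder_iff_nsmul_eq_zero.2 ⟨m, hm, ?_⟩
  rw [← map_nsmul]
  obtain ⟨b, hb⟩ := h
  have : m • z = (K.toCycles p n).hom.app (op V) b := hinj (by
    rw [map_nsmul]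
    refine hb.symm.trans ?_
    exact (congrArg (fun t : K.X p ⟶ K.X n => t.hom.app (op V) b) (K.toCycles_i p n)).symm.trans
      (ConcreteCategory.comp_apply ((K.toCycles p n).hom.app (op V)) ((K.iCycles n).hom.app (op V)) b))
  rw [this]
  exact (ConcreteCategory.comp_apply ((K.toCycles p n).hom.app (op V)) ((K.homologyπ n).hom.app (op V)) b).symm.trans
    (congrArg (fun t : K.X p ⟶ K.homology n => t.hom.app (op V) b) (K.toCycles_comp_homologyπ p n))

theorem isFinite_of_etale_compact {k : Type u} [Field k] {S : Scheme.{u}} (π : S ⟶ Spec (CommRingCat.of k))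
    [AlgebraicGeometry.Etale π] [CompactSpace ↥S] : IsFinite π := by
  haveI : QuasiCompact π := (quasiCompact_iff_compactSpace π).2 ‹_›
  haveI : LocallyQuasiFinite π := locallyQuasiFinite_of_etale π
  exact IsFinite.of_locallyQuasiFinite π

theorem isOfFinAddOrder_H_etale {k : Type u} [Field k] {S : Scheme.{u}} (π : S ⟶ Spec (CommRingCat.of k))
    [AlgebraicGeometry.Etale π] [CompactSpace ↥S] {G : EtCoh.Ab S} {n : ℕ} (x : EtCoh.H S G (n + 1)) :
    IsOfFinAddOrder x := by
  haveI := isFinite_of_etale_compact π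
  haveI : IsIntegralHom π := inferInstance
  obtain ⟨y, rfl⟩ := (Groth.Agent.S14451.result π G (fun q hq => Groth.Agent.S3054.result π G q hq) (n + 1)).2 x
  obtain ⟨d, hd, h⟩ := isOfFinAddOrder_H k y
  exact isOfFinAddOrder_iff_nsmul_eq_zero.2 ⟨d, hd, by rw [← map_nsmul, h, map_zero]⟩

theorem isOfFinAddOrder_ext_field {k : Type u} [Field k] (V : (Spec (CommRingCat.of k)).Etale)
    [CompactSpace ↥V.left] {F : EtCoh.Ab (Spec (CommRingCat.of k))} {n : ℕ}
    (y : Ext.{u + 1} (free V) F (n + 1)) : IsOfFinAddOrder y := by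
  haveI : AlgebraicGeometry.Etale V.hom := V.prop
  haveI : CompactSpace ↥((𝟭 Scheme.{u}).obj V.left) := inferInstanceAs (CompactSpace ↥V.left)
  obtain ⟨d, hd, h⟩ := isOfFinAddOrder_iff_nsmul_eq_zero.1 (isOfFinAddOrder_H_etale V.hom (psi V F (n + 1) y))
  refine isOfFinAddOrder_iff_nsmul_eq_zero.2 ⟨d, hd, (psi_bijective V (n + 1) F).1 ?_⟩
  rw [map_nsmul, h, map_zero]

theorem isTorsion_Rpush_point {X : Scheme.{u}} {k : Type u} [Field k] (f : Spec (CommRingCat.of k) ⟶ X)
    [QuasiCompact f] [QuasiSeparated f] (F : EtCoh.Ab (Spec (CommRingCat.of k))) (p : ℕ) :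
    EtCoh.IsTorsion ((EtCoh.Rpush f (p + 1)).obj F) := by
  refine isTorsion_rightDerived_push_succ f p fun V hV y => ?_
  haveI : CompactSpace ↥V.left := hV.1
  exact isOfFinAddOrder_ext_field V y

end

end EtTransferLib
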