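import Groth.Agent.EtTransferLib.Field
import Groth.Agent.EtShLib.TorsionCoh

/-!
# Torsion sheaves restricted along etale morphisms
-/

set_option autoImplicit false
set_option linter.unusedSectionVars false
set_option linter.style.haveILetI false
set_option backward.isDefEq.respectTransparency false
set_option backward.isDefEq.respectTransparency.types false
set_option maxHeartbeats 1000000

universe u

open CategoryTheory CategoryTheory.Limits AlgebraicGeometry Opposite
open Groth.Agent.EtShLib EtSliceLib

namespace EtTransferLib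

noncomputable section

theorem isTorsion_restr {U X : Scheme.{u}} (j : U ⟶ X) [AlgebraicGeometry.Etale j] [EtShriek.JCont j]
    {F : EtCoh.Ab X} (hF : EtCoh.IsTorsion F) : EtCoh.IsTorsion ((EtShriek.restrAlong j).obj F) := by
  intro V s x
  obtain ⟨V', g, ⟨v, hv⟩, ho⟩ := hF ((EtShriek.compEtale j).obj V) s x
  have w : g.left ≫ V.hom ≫ j = V'.hom := MorphismProperty.Over.w g
  haveI : AlgebraicGeometry.Etale ((g.left ≫ V.hom) ≫ j) := by
    rw [Category.assoc, w]
    exact V'.prop
  haveI : AlgebraicGeometry.Etale (g.left ≫ V.hom) := AlgebraicGeometry.Etale.of_comp _ j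
  let V₂ : U.Etale := Scheme.Etale.mk (g.left ≫ V.hom)
  let g₂ : V₂ ⟶ V := MorphismProperty.Over.homMk g.left rfl
  let e : (EtShriek.compEtale j).obj V₂ ⟶ V' :=
    MorphismProperty.Over.homMk (𝟙 _) (by
      show 𝟙 _ ≫ V'.hom = (g.left ≫ V.hom) ≫ j
      rw [Category.id_comp, Category.assoc]
      exact w.symm)
  refine ⟨V₂, g₂, ⟨v, hv⟩, ?_⟩
  have h : ((EtShriek.restrAlong j).obj F).obj.map g₂.op s = F.obj.map e.op (F.obj.map g.op s) := by
    rw [← ConcreteCategory.comp_apply, ← Functor.map_comp, ← op_comp]
    have he : (EtShriek.compEtale j).map g₂ = e ≫ g := MorphismProperty.Over.Hom.ext (Category.id_comp _).symm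
    exact congrArg (fun t => F.obj.map t.op s) he
  rw [h]
  exact AddMonoidHom.isOfFinAddOrder (F.obj.map e.op).hom ho

theorem isTorsion_pull {X : Scheme.{u}} (W : X.Etale) {F : EtCoh.Ab X} (hF : EtCoh.IsTorsion F) :
    EtCoh.IsTorsion ((EtCoh.pull W.hom).obj F) := by
  haveI : AlgebraicGeometry.Etale W.hom := W.prop
  haveI := jCont W.hom
  haveI : IsIso ((restrTheta W.hom).app F) := NatIso.isIso_app_of_isIso (restrTheta W.hom) F
  exact isTorsion_of_iso (asIso ((restrTheta W.hom).app F)).symm (isTorsion_restr W.hom hF)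

end

end EtTransferLib
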