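import Groth.Agent.EtTransferLib.Basic
import Groth.Agent.EtHensLib.Basic
import Mathlib.FieldTheory.PrimitiveElement
import Mathlib.RingTheory.Etale.Field

/-!
# Transfer along finite separable field extensions
-/

set_option autoImplicit false
set_option linter.unusedSectionVars false
set_option linter.style.haveILetI false
set_option backward.isDefEq.respectTransparency false
set_option backward.isDefEq.respectTransparency.types false
set_option synthInstance.maxHeartbeats 400000
set_option maxHeartbeats 1000000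

universe u

open CategoryTheory CategoryTheory.Limits CategoryTheory.Abelian AlgebraicGeometry Opposite
open Groth.Agent.EtShLib EtSliceLib

namespace EtTransferLib

noncomputable section

theorem card_lifts (K L : Type u) [Field K] [Field L] [Algebra K L] [FiniteDimensional K L]
    [Algebra.IsSeparable K L] (Ω : Type u) [Field Ω] [IsSepClosed Ω]
    (g : Spec (CommRingCat.of Ω) ⟶ Spec (CommRingCat.of K)) :
    Nat.card {l : Spec (CommRingCat.of Ω) ⟶ Spec (CommRingCat.of L) //
      l ≫ Spec.map (CommRingCat.ofHom (algebraMap K L)) = g} = Module.finrank K L := by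
  letI : Algebra K Ω := (Spec.preimage g).hom.toAlgebra
  have hg : Spec.map (CommRingCat.ofHom (algebraMap K Ω)) = g := Spec.map_preimage g
  let e : (L →ₐ[K] Ω) ≃ {l : Spec (CommRingCat.of Ω) ⟶ Spec (CommRingCat.of L) //
      l ≫ Spec.map (CommRingCat.ofHom (algebraMap K L)) = g} :=
    { toFun := fun σ => ⟨Spec.map (CommRingCat.ofHom σ.toRingHom), by
        rw [← Spec.map_comp, ← CommRingCat.ofHom_comp]
        exact (congrArg (fun c => Spec.map (CommRingCat.ofHom c)) σ.comp_algebraMap).trans hg⟩
      invFun := fun l =>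
        { (Spec.preimage l.1).hom with
          commutes' := fun x => by
            have h : CommRingCat.ofHom (algebraMap K L) ≫ Spec.preimage l.1 = Spec.preimage g := by
              apply Spec.map_injective
              rw [Spec.map_comp, Spec.map_preimage, Spec.map_preimage]
              exact l.2
            exact congrArg (fun c => c.hom x) h }
      left_inv := fun σ => AlgHom.ext fun x =>
        congrArg (fun c : CommRingCat.of L ⟶ CommRingCat.of Ω => c.hom x) (Spec.preimage_map _)
      right_inv := fun l => Subtype.ext (by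
        show Spec.map (CommRingCat.ofHom (Spec.preimage l.1).hom) = l.1
        rw [CommRingCat.ofHom_hom, Spec.map_preimage]) }
  rw [← Nat.card_congr e]
  refine AlgHom.natCard_of_splits K L Ω fun x => ?_
  exact IsSepClosed.splits_codomain _ (Algebra.IsSeparable.isSeparable K x)

variable (K L : Type u) [Field K] [Field L] [Algebra K L] [FiniteDimensional K L] [Algebra.IsSeparable K L]

theorem etale_specMap : AlgebraicGeometry.Etale (Spec.map (CommRingCat.ofHom (algebraMap K L))) := by
  rw [HasRingHomProperty.Spec_iff (P := @AlgebraicGeometry.Etale)]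
  haveI : Algebra.FormallyEtale K L := Algebra.FormallyEtale.of_isSeparable K L
  haveI : Algebra.FinitePresentation K L := Algebra.FinitePresentation.of_finiteType.1 inferInstance
  have h : (algebraMap K L).Etale := RingHom.etale_algebraMap.2 ⟨inferInstance, inferInstance⟩
  exact h

theorem isFinite_specMap : IsFinite (Spec.map (CommRingCat.ofHom (algebraMap K L))) :=
  (IsFinite.SpecMap_iff _).2 (RingHom.finite_algebraMap.2 inferInstance)

/-- The spectrum of `L` as an etale scheme over `K`. -/
abbrev fieldEt : (Spec (CommRingCat.of K)).Etale :=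
  haveI := etale_specMap K L
  Scheme.Etale.mk (Spec.map (CommRingCat.ofHom (algebraMap K L)))

theorem card_fib (Ω : Type u) [Field Ω] [IsSepClosed Ω]
    (ξ : Spec (CommRingCat.of Ω) ⟶ Spec (CommRingCat.of K)) : Nat.card (Fib ξ (fieldEt K L)) = Module.finrank K L := by
  rw [← card_lifts K L Ω ξ]
  exact Nat.card_congr
    { toFun := fun u => ⟨u.hom, u.w⟩
      invFun := fun l => Fib.mk (U := fieldEt K L) l.1 l.2
      left_inv := fun u => Fib.ext rfl
      right_inv := fun l => rfl }

theorem finrank_nsmul {F : EtCoh.Ab (Spec (CommRingCat.of K))} {n : ℕ} (α : EtCoh.H (Spec (CommRingCat.of K)) F n)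
    (h : (Ext.mk₀ (toConst (fieldEt K L))).comp α (zero_add n) = 0) : Module.finrank K L • α = 0 := by
  haveI : IsFinite (fieldEt K L).hom := isFinite_specMap K L
  exact nsmul_eq_zero _ (fun Ω _ _ ξ => card_fib K L Ω ξ) α h

variable (k : Type u) [Field k]

theorem exists_field_kill {F : EtCoh.Ab (Spec (CommRingCat.of k))} {n : ℕ}
    (α : EtCoh.H (Spec (CommRingCat.of k)) F (n + 1)) :
    ∃ (L : Type u) (_ : Field L) (_ : Algebra k L) (_ : FiniteDimensional k L) (_ : Algebra.IsSeparable k L),
      (Ext.mk₀ (toConst (fieldEt k L))).comp α (zero_add (n + 1)) = 0 := by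
  obtain ⟨W, hW, hW', hk⟩ := EtHensLib.exists_kill (A := k) n F α
  let φ : W.left ⟶ Spec (CommRingCat.of k) := W.hom
  haveI : AlgebraicGeometry.Etale φ := W.prop
  haveI : IsFinite φ := hW
  haveI : IsAffine W.left := isAffine_of_isAffineHom φ
  let ψ : CommRingCat.of k ⟶ Γ(W.left, ⊤) := Spec.preimage (W.left.isoSpec.inv ≫ φ)
  have hψ : Spec.map ψ = W.left.isoSpec.inv ≫ φ := Spec.map_preimage _
  letI : Algebra k Γ(W.left, ⊤) := ψ.hom.toAlgebra
  haveI : Algebra.Etale k Γ(W.left, ⊤) := by
    haveI : AlgebraicGeometry.Etale (Spec.map ψ) := by rw [hψ]; infer_instance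
    exact RingHom.etale_algebraMap.1 ((HasRingHomProperty.Spec_iff (P := @AlgebraicGeometry.Etale)).1 ‹_›)
  haveI : Module.Finite k Γ(W.left, ⊤) := by
    haveI : IsFinite (Spec.map ψ) := by rw [hψ]; infer_instance
    exact RingHom.finite_algebraMap.1 ((IsFinite.SpecMap_iff _).1 ‹_›)
  haveI : Nontrivial Γ(W.left, ⊤) := by
    haveI : Surjective φ := hW'
    obtain ⟨w, -⟩ := φ.surjective (default : ↥(Spec (CommRingCat.of k)))
    haveI : Nonempty ↥(Spec Γ(W.left, ⊤)) := ⟨W.left.isoSpec.hom w⟩
    exact PrimeSpectrum.nontrivial (R := Γ(W.left, ⊤)) (Classical.arbitrary ↥(Spec Γ(W.left, ⊤)))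
  obtain ⟨m, hm⟩ := Ideal.exists_maximal Γ(W.left, ⊤)
  letI : Field (Γ(W.left, ⊤) ⧸ m) := Ideal.Quotient.field m
  haveI : Algebra.IsSeparable k (Γ(W.left, ⊤) ⧸ m) := by
    haveI : Algebra.FormallyUnramified Γ(W.left, ⊤) (Γ(W.left, ⊤) ⧸ m) :=
      Algebra.FormallyUnramified.of_surjective (Algebra.ofId _ _) Ideal.Quotient.mk_surjective
    haveI : Algebra.FormallyUnramified k (Γ(W.left, ⊤) ⧸ m) :=
      Algebra.FormallyUnramified.comp k Γ(W.left, ⊤) (Γ(W.left, ⊤) ⧸ m)
    exact Algebra.FormallyUnramified.isSeparable k (Γ(W.left, ⊤) ⧸ m)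
  refine ⟨Γ(W.left, ⊤) ⧸ m, inferInstance, inferInstance, inferInstance, inferInstance, ?_⟩
  let f : fieldEt k (Γ(W.left, ⊤) ⧸ m) ⟶ W :=
    MorphismProperty.Over.homMk (Spec.map (CommRingCat.ofHom (Ideal.Quotient.mk m)) ≫ W.left.isoSpec.inv) (by
      show (_ ≫ _) ≫ φ = Spec.map (CommRingCat.ofHom (algebraMap k (Γ(W.left, ⊤) ⧸ m)))
      rw [Category.assoc, ← hψ, ← Spec.map_comp]
      rfl)
  rw [← freeMap_toConst f, ← Ext.mk₀_comp_mk₀, Ext.comp_assoc_of_second_deg_zero, hk, Ext.comp_zero]

theorem isOfFinAddOrder_H {F : EtCoh.Ab (Spec (CommRingCat.of k))} {n : ℕ}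
    (α : EtCoh.H (Spec (CommRingCat.of k)) F (n + 1)) : ∃ d : ℕ, 0 < d ∧ d • α = 0 := by
  obtain ⟨L, _, _, _, _, h⟩ := exists_field_kill k α
  exact ⟨Module.finrank k L, Module.finrank_pos, finrank_nsmul k L α h⟩

end

end EtTransferLib
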